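import Mathlib
import Cfsg.Agent.ExtraspecialTwo.Coord
import Cfsg.Agent.Eq.Def_CaseTheorems

/-!
Number of involutions and rank of an extraspecial 2-group, read off from its quadratic space.
-/

set_option autoImplicit false

namespace CfsgLib.ExtraspecialTwo

open Cfsg CfsgLib.F2Forms

namespace IsCoord

variable {G : Type*} [Group G] [Finite G] {n : ℕ} {π : G →* Multiplicative (Sp n)}

theorem card_eq {q : Sp n → ZMod 2} (h : IsCoord π q) : Nat.card G = 2 ^ (2 * n + 1) := by
  have hker : π.ker = Subgroup.center G := Subgroup.ext h.ker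
  rw [← π.ker.card_mul_index, Subgroup.index_ker, MonoidHom.range_eq_top.2 h.surj, Subgroup.card_top,
    hker, h.card_center]
  rw [Nat.card_congr Multiplicative.toAdd, Nat.card_eq_fintype_card, card_sp, pow_succ']

theorem card_comap {q : Sp n → ZMod 2} (h : IsCoord π q) (U : Subgroup (Multiplicative (Sp n))) :
    Nat.card ↥(U.comap π) = 2 * Nat.card ↥U := by
  have h1 := (U.comap π).card_mul_index
  have h2 := U.card_mul_index
  rw [Subgroup.index_comap_of_surjective U h.surj, h.card_eq] at h1
  rw [Nat.card_congr Multiplicative.toAdd, Nat.card_eq_fintype_card (α := Sp n), card_sp] at h2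
  refine Nat.eq_of_mul_eq_mul_right (Nat.pos_of_ne_zero Subgroup.index_ne_zero_of_finite) (h1.trans ?_)
  rw [mul_assoc, h2, pow_succ']

variable {w : Sp n}

theorem card_sq (h : IsCoord π (form n w)) :
    (Nat.card {x : G // x ^ 2 = 1} : ℤ) = 2 ^ (2 * n) + sgn (quadFormPlus n (ZMod 2) w) * 2 ^ n := by
  classical
  let sec : Multiplicative (Sp n) → G := Function.surjInv h.surj
  have hsec : ∀ v, π (sec v) = v := Function.surjInv_eq h.surj
  let e : {x : G // x ^ 2 = 1} ≃ {v : Sp n // form n w v = 0} × ↥(Subgroup.center G) :=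
    { toFun := fun x => (⟨(π x.1).toAdd, (h.sq x.1).1 (by rw [← pow_two]; exact x.2)⟩,
        ⟨(sec (π x.1))⁻¹ * x.1, (h.ker _).1 (by rw [map_mul, map_inv, hsec, inv_mul_cancel])⟩)
      invFun := fun p => ⟨sec (Multiplicative.ofAdd p.1.1) * p.2.1, by
        rw [pow_two, h.sq, map_mul, (h.ker _).2 p.2.2, mul_one, hsec, toAdd_ofAdd]
        exact p.1.2⟩
      left_inv := fun x => Subtype.ext (by simp)
      right_inv := fun p => by
        have he : π (sec (Multiplicative.ofAdd p.1.1) * p.2.1) = Multiplicative.ofAdd p.1.1 := by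
          rw [map_mul, (h.ker _).2 p.2.2, mul_one, hsec]
        refine Prod.ext (Subtype.ext ?_) (Subtype.ext ?_)
        · show (π (sec (Multiplicative.ofAdd p.1.1) * p.2.1)).toAdd = p.1.1
          rw [he, toAdd_ofAdd]
        · show (sec (π (sec (Multiplicative.ofAdd p.1.1) * p.2.1)))⁻¹ *
            (sec (Multiplicative.ofAdd p.1.1) * p.2.1) = p.2.1
          rw [he, inv_mul_cancel_left] }
  rw [Nat.card_congr e, Nat.card_prod, h.card_center, Nat.cast_mul, mul_comm, Nat.cast_two,
    two_mul_card_fiber, gauss_form, sgn_zero, one_mul, card_sp]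
  push_cast
  ring

/-- A subgroup of exponent two has order at most `2 ^ (n + 1)`, with equality only for plus type. -/
theorem card_le (h : IsCoord π (form n w)) (A : Subgroup G) (hA : ∀ a ∈ A, a * a = 1) :
    Nat.card ↥A ≤ 2 ^ (n + 1) ∧ (Nat.card ↥A = 2 ^ (n + 1) → quadFormPlus n (ZMod 2) w = 0) := by
  classical
  set S := A ⊔ Subgroup.center G with hS
  have hSsq : ∀ x ∈ S, x * x = 1 := by
    intro x hx
    obtain ⟨a, ha, c, hc, rfl⟩ := Subgroup.mem_sup_of_normal_right.1 hx
    have hcc : c * c = 1 := by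
      have := congrArg Subtype.val (pow_card_eq_one' (x := (⟨c, hc⟩ : ↥(Subgroup.center G))))
      rw [h.card_center] at this
      simpa [pow_two] using this
    have hac : a * c = c * a := Subgroup.mem_center_iff.1 hc a
    rw [(Commute.symm hac).mul_mul_mul_comm, hA a ha, hcc, one_mul]
  have hSeq : (S.map π).comap π = S := by
    rw [Subgroup.comap_map_eq, sup_eq_left]
    exact fun x hx => (le_sup_right : Subgroup.center G ≤ S) ((h.ker x).1 hx)
  let U : Submodule (ZMod 2) (Sp n) :=
    AddSubgroup.toZModSubmodule 2 (Subgroup.toAddSubgroup' (S.map π))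
  have hUcard : Nat.card ↥U = Nat.card ↥(S.map π) := rfl
  have hU : ∀ u ∈ U, form n w u = 0 := by
    intro u hu
    obtain ⟨x, hx, hxu⟩ : Multiplicative.ofAdd u ∈ S.map π := hu
    have := (h.sq x).1 (hSsq x hx)
    rwa [hxu, toAdd_ofAdd] at this
  have hcard : Nat.card ↥S = 2 * Nat.card ↥U := by
    rw [hUcard, ← h.card_comap, hSeq]
  obtain ⟨hle, heq⟩ := totallySingular_card (form n w) (hb n) (form_add n w) (hb_add_left n)
    (hb_add_right n) (hb_nondeg n) U hU
  rw [card_sp, two_mul, pow_add] at hle heq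
  have hUle : Nat.card ↥U ≤ 2 ^ n := Nat.mul_self_le_mul_self_iff.1 hle
  have hAS : Nat.card ↥A ≤ Nat.card ↥S := Subgroup.card_le_of_le le_sup_left
  refine ⟨hAS.trans (hcard.le.trans (by rw [pow_succ']; omega)), fun hAeq => ?_⟩
  have hUeq : Nat.card ↥U = 2 ^ n := by
    rw [pow_succ'] at hAeq
    omega
  have hg := heq (by rw [hUeq])
  rw [gauss_form, hUeq] at hg
  push_cast at hg
  refine sgn_inj _ 0 ?_
  rw [sgn_zero]
  exact mul_right_cancel₀ (b := (2 : ℤ) ^ n) (by positivity) (by rw [hg, one_mul])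

/-- Preimages of totally singular subspaces are elementary abelian. -/
theorem exists_elementary {q : Sp n → ZMod 2} (h : IsCoord π q) (U : Submodule (ZMod 2) (Sp n))
    (hU : ∀ u ∈ U, q u = 0) :
    ∃ A : Subgroup G, IsElementaryAbelian 2 A ∧ Nat.card ↥A = 2 * Nat.card ↥U := by
  set A := (AddSubgroup.toSubgroup U.toAddSubgroup).comap π with hAdef
  have hsq : ∀ a ∈ A, a * a = 1 := fun a ha => (h.sq a).2 (hU _ ha)
  refine ⟨A, ⟨⟨⟨fun a b => Subtype.ext ?_⟩⟩, fun a ha => by rw [pow_two]; exact hsq a ha⟩, ?_⟩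
  · show (a : G) * b = b * a
    have h1 := hsq _ (A.mul_mem a.2 b.2)
    rw [← inv_eq_of_mul_eq_one_right h1, mul_inv_rev, inv_eq_of_mul_eq_one_right (hsq _ a.2),
      inv_eq_of_mul_eq_one_right (hsq _ b.2)]
  · rw [hAdef, h.card_comap]
    rfl

/-- The two possible ranks. -/
theorem exists_max_elementary (h : IsCoord π (form n w)) (hn : 1 ≤ n) :
    (quadFormPlus n (ZMod 2) w = 0 →
      ∃ A : Subgroup G, IsElementaryAbelian 2 A ∧ Nat.card ↥A = 2 ^ (n + 1)) ∧
    (quadFormPlus n (ZMod 2) w = 1 →
      ∃ A : Subgroup G, IsElementaryAbelian 2 A ∧ Nat.card ↥A = 2 ^ n) := by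
  constructor
  · intro hw
    obtain ⟨g, hg⟩ := form_isometric n w 0 (by rw [hw, quadFormPlus_zero])
    let f : (Fin n → ZMod 2) →ₗ[ZMod 2] Sp n :=
      { toFun := fun c => Sum.elim c 0
        map_add' := fun a b => by funext j; rcases j with i | i <;> simp
        map_smul' := fun a b => by funext j; rcases j with i | i <;> simp }
    obtain ⟨A, hA, hAc⟩ := h.exists_elementary (LinearMap.range (g.toLinearMap.comp f)) (by
      rintro _ ⟨c, rfl⟩
      show form n w (g (f c)) = 0
      rw [← hg]
      simp [form, hb_zero_right, quadFormPlus, f])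
    refine ⟨A, hA, hAc.trans ?_⟩
    have hinj : Function.Injective (g.toLinearMap.comp f) := g.injective.comp fun a b e =>
      funext fun i => congrFun e (Sum.inl i)
    rw [← Nat.card_congr (LinearEquiv.ofInjective _ hinj).toEquiv, Nat.card_fun, Nat.card_zmod,
      Nat.card_fin, pow_succ']
  · intro hw
    obtain ⟨k, rfl⟩ : ∃ k, n = k + 1 := ⟨n - 1, by omega⟩
    obtain ⟨g, hg⟩ := form_isometric (k + 1) w (wMinus k) (by rw [hw, quadFormPlus_wMinus])
    let f : (Fin k → ZMod 2) →ₗ[ZMod 2] Sp (k + 1) :=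
      { toFun := fun c => Sum.elim (Fin.snoc c 0) 0
        map_add' := fun a b => by
          funext j; rcases j with i | i
          · refine Fin.lastCases ?_ (fun i => ?_) i <;> simp
          · simp
        map_smul' := fun a b => by
          funext j; rcases j with i | i
          · refine Fin.lastCases ?_ (fun i => ?_) i <;> simp
          · simp }
    obtain ⟨A, hA, hAc⟩ := h.exists_elementary (LinearMap.range (g.toLinearMap.comp f)) (by
      rintro _ ⟨c, rfl⟩
      show form (k + 1) w (g (f c)) = 0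
      rw [← hg]
      simp [form, hb, quadFormPlus, f, wMinus, Fin.sum_univ_castSucc, Pi.single_apply])
    refine ⟨A, hA, hAc.trans ?_⟩
    have hinj : Function.Injective (g.toLinearMap.comp f) := g.injective.comp fun a b e =>
      funext fun i => by simpa [f] using congrFun e (Sum.inl i.castSucc)
    rw [← Nat.card_congr (LinearEquiv.ofInjective _ hinj).toEquiv, Nat.card_fun, Nat.card_zmod,
      Nat.card_fin, pow_succ']

/-- The rank is `n` or `n + 1` according to the type. -/
theorem pRankLE_iff (h : IsCoord π (form n w)) (hn : 1 ≤ n) (k : ℕ) :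
    PRankLE 2 k G ↔ (if quadFormPlus n (ZMod 2) w = 0 then n + 1 else n) ≤ k := by
  haveI : Fact (Nat.Prime 2) := ⟨Nat.prime_two⟩
  constructor
  · intro hk
    obtain ⟨h0, h1⟩ := h.exists_max_elementary hn
    split_ifs with hw
    · obtain ⟨A, hA, hAc⟩ := h0 hw
      exact (Nat.pow_le_pow_iff_right (by norm_num)).1 (hAc ▸ hk A hA.1 hA.2)
    · obtain ⟨A, hA, hAc⟩ := h1 ((ne_zero_iff _).1 hw)
      exact (Nat.pow_le_pow_iff_right (by norm_num)).1 (hAc ▸ hk A hA.1 hA.2)
  · intro hk A _ hA
    obtain ⟨hle, heq⟩ := h.card_le A (fun a ha => by rw [← pow_two]; exact hA a ha)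
    obtain ⟨j, -, hj⟩ := (Nat.dvd_prime_pow Nat.prime_two).1 (h.card_eq ▸ Subgroup.card_subgroup_dvd_card A)
    rw [hj] at hle heq ⊢
    refine Nat.pow_le_pow_right (by norm_num) ?_
    have hjn := (Nat.pow_le_pow_iff_right (by norm_num)).1 hle
    split_ifs at hk with hw
    · omega
    · rcases Nat.lt_or_ge j (n + 1) with hlt | hge
      · omega
      · exact absurd (heq (by rw [le_antisymm hjn hge])) hw

end IsCoord

end CfsgLib.ExtraspecialTwo
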